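import Mathlib.RingTheory.GradedAlgebra.Basic
import Mathlib.Algebra.GradedMulAction
import Mathlib.Algebra.Module.Submodule.Ker
import Mathlib.Algebra.Module.Submodule.RestrictScalars
import Mathlib.LinearAlgebra.DFinsupp
import Mathlib.LinearAlgebra.Quotient.Basic
import Mathlib.Algebra.DirectSum.Module

/-!
# Quotients of graded free modules with generators in nonnegative degrees
-/

universe u

open DirectSum

namespace Groth.CohProjGr

variable {R A : Type u} [CommRing R] [CommRing A] [Algebra R A] (𝒜 : ℕ → Submodule R A)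
  [GradedAlgebra 𝒜] {r : ℕ} (e : Fin r → ℕ)

/-- The degree `n` component in `⊕ A(-e j)`. -/
noncomputable def pr (n : ℕ) : (Fin r → A) →ₗ[R] (Fin r → A) :=
  LinearMap.pi fun j =>
    if e j ≤ n then (GradedAlgebra.proj 𝒜 (n - e j)).comp (LinearMap.proj j) else 0

theorem pr_apply (n : ℕ) (v : Fin r → A) (j : Fin r) :
    pr 𝒜 e n v j = if e j ≤ n then (decompose 𝒜 (v j) (n - e j) : A) else 0 := by
  rw [pr, LinearMap.pi_apply]
  split_ifs with h
  · simp [GradedAlgebra.proj_apply]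
  · rfl

theorem pr_mem (n : ℕ) (v : Fin r → A) (j : Fin r) : pr 𝒜 e n v j ∈ 𝒜 (n - e j) := by
  rw [pr_apply]
  split_ifs with h
  · exact SetLike.coe_mem _
  · exact zero_mem _

theorem pr_deg (n : ℕ) (v : Fin r → A) (j : Fin r) : e j ≤ n ∨ pr 𝒜 e n v j = 0 := by
  rw [pr_apply]
  split_ifs with h
  · exact Or.inl h
  · exact Or.inr rfl

theorem pr_idem (n : ℕ) (v : Fin r → A) : pr 𝒜 e n (pr 𝒜 e n v) = pr 𝒜 e n v := by
  funext j
  rcases pr_deg 𝒜 e n v j with h | h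
  · rw [pr_apply, if_pos h, decompose_of_mem_same 𝒜 (pr_mem 𝒜 e n v j)]
  · rw [pr_apply, h, decompose_zero]; simp

theorem pr_of_ne {m n : ℕ} (h : m ≠ n) (v : Fin r → A) : pr 𝒜 e m (pr 𝒜 e n v) = 0 := by
  funext j
  rw [pr_apply]
  split_ifs with hm
  · rcases pr_deg 𝒜 e n v j with hn | hn
    · rw [decompose_of_mem_ne 𝒜 (pr_mem 𝒜 e n v j) (by omega)]; rfl
    · rw [hn, decompose_zero]; simp
  · rfl

theorem pr_smul {i : ℕ} {b : A} (hb : b ∈ 𝒜 i) (m : ℕ) (v : Fin r → A) :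
    pr 𝒜 e m (b • v) = if i ≤ m then b • pr 𝒜 e (m - i) v else 0 := by
  funext j
  rw [pr_apply, Pi.smul_apply, smul_eq_mul, coe_decompose_mul_of_left_mem 𝒜 _ hb]
  by_cases h : i ≤ m
  · rw [if_pos h, Pi.smul_apply, smul_eq_mul, pr_apply]
    by_cases h' : e j ≤ m - i
    · have h₁ : e j ≤ m := by omega
      have h₂ : i ≤ m - e j := by omega
      rw [if_pos h', if_pos h₁, if_pos h₂, show m - e j - i = m - i - e j by omega]
    · rw [if_neg h', mul_zero]
      split_ifs <;> first | omega | rfl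
  · rw [if_neg h]
    split_ifs <;> first | omega | rfl

theorem pr_smul_add {i : ℕ} {b : A} (hb : b ∈ 𝒜 i) (n : ℕ) (v : Fin r → A) :
    pr 𝒜 e (i + n) (b • v) = b • pr 𝒜 e n v := by
  rw [pr_smul 𝒜 e hb, if_pos (Nat.le_add_right i n), Nat.add_sub_cancel_left]

theorem pr_smul_right (u : A) {n : ℕ} {w : Fin r → A} (hw : pr 𝒜 e n w = w) (l : ℕ) :
    pr 𝒜 e (l + n) (u • w) = (decompose 𝒜 u l : A) • w := by
  funext j
  rw [pr_apply, Pi.smul_apply, Pi.smul_apply, smul_eq_mul, smul_eq_mul]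
  rcases pr_deg 𝒜 e n w j with h | h
  · have hmem : w j ∈ 𝒜 (n - e j) := hw ▸ pr_mem 𝒜 e n w j
    have h₁ : e j ≤ l + n := by omega
    have h₂ : n - e j ≤ l + n - e j := by omega
    rw [if_pos h₁, coe_decompose_mul_of_right_mem 𝒜 _ hmem, if_pos h₂,
      show l + n - e j - (n - e j) = l by omega]
  · rw [hw] at h
    rw [h, mul_zero, mul_zero, decompose_zero]
    simp

theorem mem_iSup_range_pr (v : Fin r → A) : v ∈ ⨆ n, LinearMap.range (pr 𝒜 e n) := by
  classical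
  have h1 : ∀ (j : Fin r) (a : A) (i : ℕ), a ∈ 𝒜 i →
      (Pi.single j a : Fin r → A) ∈ LinearMap.range (pr 𝒜 e (i + e j)) := fun j a i ha => by
    refine ⟨Pi.single j a, ?_⟩
    funext k
    rw [pr_apply]
    rcases eq_or_ne k j with rfl | hk
    · rw [if_pos (Nat.le_add_left _ _), Pi.single_eq_same, Nat.add_sub_cancel,
        decompose_of_mem_same 𝒜 ha]
    · rw [Pi.single_eq_of_ne hk, decompose_zero]
      simp
  rw [← Finset.univ_sum_single v]
  refine Submodule.sum_mem _ fun j _ => ?_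
  rw [show (Pi.single j (v j) : Fin r → A) = LinearMap.single R (fun _ : Fin r => A) j (v j) from rfl,
    ← sum_support_decompose 𝒜 (v j), map_sum]
  exact Submodule.sum_mem _ fun i _ =>
    Submodule.mem_iSup_of_mem (i + e j) (h1 j _ i (SetLike.coe_mem _))

section Quot

variable (N : Submodule A (Fin r → A))

/-- The induced grading on a quotient. -/
noncomputable def qGr (n : ℕ) : Submodule R ((Fin r → A) ⧸ N) :=
  LinearMap.range ((N.mkQ.restrictScalars R).comp (pr 𝒜 e n))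

theorem mk_mem_qGr (n : ℕ) (v : Fin r → A) : N.mkQ (pr 𝒜 e n v) ∈ qGr 𝒜 e N n :=
  ⟨v, rfl⟩

instance qGr_gradedSMul : SetLike.GradedSMul 𝒜 (qGr 𝒜 e N) where
  smul_mem := by
    rintro i n a - ha ⟨v, rfl⟩
    refine ⟨a • v, ?_⟩
    change N.mkQ (pr 𝒜 e (i + n) (a • v)) = a • N.mkQ (pr 𝒜 e n v)
    rw [pr_smul_add 𝒜 e ha, map_smul]

variable (hN : ∀ (n : ℕ) (v : Fin r → A), v ∈ N → pr 𝒜 e n v ∈ N)
include hN

theorem isInternal_qGr : IsInternal (qGr 𝒜 e N) := by
  rw [isInternal_submodule_iff_iSupIndep_and_iSup_eq_top]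
  constructor
  · refine iSupIndep_def.mpr fun n => ?_
    have hle : (⨆ m, ⨆ (_ : m ≠ n), qGr 𝒜 e N m) ≤
        (LinearMap.ker (pr 𝒜 e n)).map (N.mkQ.restrictScalars R) := by
      refine iSup₂_le fun m hm => ?_
      rintro - ⟨v, rfl⟩
      exact Submodule.mem_map.mpr
        ⟨pr 𝒜 e m v, LinearMap.mem_ker.mpr (pr_of_ne 𝒜 e hm.symm v), rfl⟩
    refine Submodule.disjoint_def.mpr fun x hx hx' => ?_
    obtain ⟨v, rfl⟩ := hx
    obtain ⟨w, hw, hwv⟩ := Submodule.mem_map.mp (hle hx')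
    have h := hN n _ ((Submodule.Quotient.eq N).mp
      (show N.mkQ w = N.mkQ (pr 𝒜 e n v) from hwv))
    rw [map_sub, LinearMap.mem_ker.mp hw, pr_idem, zero_sub] at h
    exact (Submodule.Quotient.mk_eq_zero N).mpr (neg_mem_iff.mp h)
  · refine eq_top_iff.mpr fun x _ => ?_
    obtain ⟨v, rfl⟩ := N.mkQ_surjective x
    have h : Submodule.map (N.mkQ.restrictScalars R) (⨆ n, LinearMap.range (pr 𝒜 e n)) ≤
        ⨆ n, qGr 𝒜 e N n := by
      rw [Submodule.map_iSup]
      exact iSup_mono fun n => (LinearMap.range_comp _ _).ge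
    exact h (Submodule.mem_map.mpr ⟨v, mem_iSup_range_pr 𝒜 e v, rfl⟩)

end Quot

end Groth.CohProjGr
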