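import Groth.Agent.CohProjGr.Vec
import Groth.Agent.Ega2Proj.Generators
import Mathlib.AlgebraicGeometry.ProjectiveSpectrum.Proper

/-!
# A coherent module on `Proj` of a Noetherian graded ring is `M~` for a finite graded `M`
-/

universe u

open CategoryTheory CategoryTheory.Limits AlgebraicGeometry Opposite TopologicalSpace DirectSum
open Groth.PicAux Groth.Ega2Proj

noncomputable section

namespace Groth.CohProjGr

variable {R A : Type u} [CommRing R] [CommRing A] [Algebra R A] {𝒜 : ℕ → Submodule R A}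
  [GradedAlgebra 𝒜] {r : ℕ} {e : Fin r → ℕ} {ι : Type u} (𝒢 : PnCoh.StdFamily (𝒜 := 𝒜) ι)
  {F : (Proj 𝒜).Modules} (Φ : sh 𝒜 e ⟶ F)

lemma notMem_pow {g : A} {U : (Proj 𝒜).Opens} (hU : U ≤ Proj.basicOpen 𝒜 g) (p : ℕ)
    (x : ProjectiveSpectrum 𝒜) (hx : x ∈ U) : g ^ p ∉ x.asHomogeneousIdeal :=
  fun h => hU hx (x.isPrime.mem_of_pow_mem p h)

/-- The image of `v / g_c ^ p` in `F`. -/
def chartVal (c : ι) (p : ℕ) : (Fin r → A) →+ Γ(F, Proj.basicOpen 𝒜 (𝒢.g c)) :=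
  (Φ.app (Proj.basicOpen 𝒜 (𝒢.g c))).hom.comp
    (vec (k := p * 𝒢.e c) (t := 𝒢.g c ^ p) (by simpa using SetLike.pow_mem_graded p (𝒢.mem c))
      (U := Proj.basicOpen 𝒜 (𝒢.g c)) (notMem_pow le_rfl p))

/-- Degree `n` vectors all whose fractions on the charts are killed by `Φ`. -/
def Killed (n : ℕ) (v : Fin r → A) : Prop :=
  ∀ (c : ι) (p i : ℕ) (a : A), a ∈ 𝒜 i → i + n = p * 𝒢.e c → chartVal 𝒢 Φ c p (a • v) = 0

/-- The saturated graded kernel of `Φ`. -/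
def kerMod : Submodule A (Fin r → A) where
  carrier := {v | ∀ n, Killed 𝒢 Φ n (pr 𝒜 e n v)}
  add_mem' := fun {v w} hv hw n c p i a ha hn => by
    rw [map_add, smul_add, map_add, hv n c p i a ha hn, hw n c p i a ha hn, add_zero]
  zero_mem' := fun n c p i a _ _ => by rw [map_zero, smul_zero, map_zero]
  smul_mem' := fun b v hv n c p i a ha hn => by
    classical
    induction b using DirectSum.Decomposition.inductionOn 𝒜 with
    | zero => rw [zero_smul, map_zero, smul_zero, map_zero]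
    | @homogeneous k b =>
      rw [pr_smul 𝒜 e b.2]
      split_ifs with h
      · rw [smul_smul]
        exact hv (n - k) c p (i + k) (a * b) (SetLike.mul_mem_graded ha b.2) (by omega)
      · rw [smul_zero, map_zero]
    | add x y hx hy => rw [add_smul, map_add, smul_add, map_add, hx, hy, add_zero]

lemma mem_kerMod {v : Fin r → A} :
    v ∈ kerMod 𝒢 Φ ↔ ∀ n, Killed 𝒢 Φ n (pr 𝒜 e n v) := Iff.rfl

lemma pr_mem_kerMod (n : ℕ) (v : Fin r → A) (hv : v ∈ kerMod 𝒢 Φ) :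
    pr 𝒜 e n v ∈ kerMod 𝒢 Φ := fun m => by
  rcases eq_or_ne m n with rfl | h
  · rw [pr_idem]; exact hv m
  · rw [pr_of_ne 𝒜 e h]
    intro c p i a _ _
    rw [smul_zero, map_zero]

lemma mem_kerMod_of_killed {n : ℕ} {v : Fin r → A} (hv : pr 𝒜 e n v = v)
    (h : Killed 𝒢 Φ n v) : v ∈ kerMod 𝒢 Φ := fun m => by
  rcases eq_or_ne m n with rfl | hm
  · rwa [hv]
  · rw [← hv, pr_of_ne 𝒜 e hm]
    intro c p i a _ _
    rw [smul_zero, map_zero]

lemma res_app_zero {U W : (Proj 𝒜).Opens} (hW : W ≤ U) {s : Γ(sh 𝒜 e, U)}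
    (h : Φ.app U s = 0) : Φ.app W (res (sh 𝒜 e) hW s) = 0 := by
  refine ((QCohMod.res_app Φ hW s).symm.trans ?_)
  rw [h]
  exact map_zero _

lemma canMul_mk (N : Submodule A (Fin r → A)) (j : Fin r) :
    Variety2.Reg.Tilde.CanMul 𝒜 (qGr 𝒜 e N) (-(e j : ℤ)) 0 (N.mkQ (Pi.single j 1)) := by
  classical
  intro i k a ha hdeg
  rcases hdeg with h | rfl
  · refine ⟨k, ⟨a • Pi.single j 1, ?_⟩, Or.inl (by simp)⟩
    change N.mkQ (pr 𝒜 e k (a • Pi.single j 1)) = a • N.mkQ (Pi.single j 1)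
    rw [← map_smul]
    congr 1
    funext l
    rw [pr_apply, Pi.smul_apply, smul_eq_mul]
    rcases eq_or_ne l j with rfl | hl
    · rw [Pi.single_eq_same, mul_one, if_pos (by omega), show k - e l = i by omega,
        decompose_of_mem_same 𝒜 ha]
    · rw [Pi.single_eq_of_ne hl, mul_zero, decompose_zero]
      simp
  · exact ⟨0, by simp, Or.inr (by simp)⟩

/-- `⊕ O(-e j) → (P / N)~`. -/
def toTilde (N : Submodule A (Fin r → A)) : sh 𝒜 e ⟶ GrTilde.tilde 𝒜 (qGr 𝒜 e N) 0 :=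
  Sigma.desc fun j => Variety2.Reg.Tilde.map (canMul_mk N j)

lemma mk_sum {M : Type u} [AddCommGroup M] [Module A M] {x : ProjectiveSpectrum 𝒜} {N : ℕ}
    (q : Fin N → M) (t : x.asHomogeneousIdeal.toIdeal.primeCompl) :
    ∑ b, (LocalizedModule.mk (q b) t : GrTilde.LocMod 𝒜 (M := M) x) =
      LocalizedModule.mk (∑ b, q b) t := by
  induction N with
  | zero => simp
  | succ N ih =>
    rw [Fin.sum_univ_succ, Fin.sum_univ_succ, ih, LocalizedModule.mk_add_mk, LocalizedModule.mk_eq]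
    exact ⟨1, by simp [smul_add, smul_smul, Submonoid.smul_def]⟩

lemma tval_toTilde (N : Submodule A (Fin r → A)) {k : ℕ} {t : A} (ht : t ∈ 𝒜 k)
    {U : (Proj 𝒜).Opens} (hU : ∀ x : ProjectiveSpectrum 𝒜, x ∈ U → t ∉ x.asHomogeneousIdeal)
    (v : Fin r → A) (x : ProjectiveSpectrum 𝒜) (hx : x ∈ U) :
    Tilde.tval ((toTilde N).app U (vec (e := e) ht hU v)) x hx =
      LocalizedModule.mk (N.mkQ (pr 𝒜 e k v)) ⟨t, hU x hx⟩ := by
  classical
  rw [vec_apply, map_sum]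
  let φ : Γ(GrTilde.tilde 𝒜 (qGr 𝒜 e N) 0, U) →+ GrTilde.LocMod 𝒜 (M := (Fin r → A) ⧸ N) x :=
    AddMonoidHom.mk' (fun s => Tilde.tval s x hx) fun _ _ => rfl
  refine (map_sum φ _ _).trans ?_
  refine Eq.trans (Finset.sum_congr rfl fun j _ => ?_)
    ((mk_sum (fun j => pr 𝒜 e k v j • N.mkQ (Pi.single j 1)) ⟨t, hU x hx⟩).trans ?_)
  · have h : Sigma.ι (tw 𝒜 e) j ≫ toTilde N = Variety2.Reg.Tilde.map (canMul_mk N j) :=
      Sigma.ι_desc _ _
    refine (congrArg (fun s => Tilde.tval s x hx) (congr(($h).app U (comp ht hU j v)))).trans ?_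
    refine (Variety2.Reg.Tilde.tval_map _ (comp ht hU j v) x hx).trans ?_
    rw [wval_comp, LocalizedModule.mk_smul_mk]
    congr 1
    exact Subtype.ext (mul_one t)
  · congr 1
    rw [← Finset.sum_congr rfl fun j _ => N.mkQ.map_smul (pr 𝒜 e k v j) (Pi.single j 1),
      ← map_sum, ← pi_eq_sum_univ']

theorem epi_toTilde (N : Submodule A (Fin r → A)) : Epi (toTilde (𝒜 := 𝒜) (e := e) N) := by
  refine (QCohMod.epi_iff_stalk _).mpr fun x z => ?_
  obtain ⟨W, hxW, s, rfl⟩ := QCohMod.exists_germ (GrTilde.tilde 𝒜 (qGr 𝒜 e N) 0) (X := Proj 𝒜) x z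
  obtain ⟨i, k, m, t, htx, hm, htk, hdeg, hval⟩ :=
    Tilde.exists_frac_of_mem_tildeAt 𝒜 (qGr 𝒜 e N) 0 (Tilde.tval_mem s x hxW)
  obtain ⟨v, hv⟩ : ∃ v, N.mkQ (pr 𝒜 e k v) = m := by
    rcases hdeg with h | h
    · obtain rfl : i = k := by omega
      exact hm
    · exact ⟨0, by rw [map_zero, map_zero, h]⟩
  have hxt : x ∈ Proj.basicOpen 𝒜 t := htx
  refine ⟨QCohMod.germ (sh 𝒜 e) x hxt (vec htk (U := Proj.basicOpen 𝒜 t) (fun _ hy => hy) v),
    (QCohMod.stalk_map_germ _ x hxt _).trans ?_⟩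
  refine Variety2.Reg.Tilde.germ_congr _ _ x hxt hxW ?_
  refine (tval_toTilde N htk (fun _ hy => hy) v x hxt).trans ?_
  rw [hv]
  exact hval.symm

lemma exists_homogeneous_basicOpen (x : ProjectiveSpectrum 𝒜) {W : (Proj 𝒜).Opens} (hx : x ∈ W) :
    ∃ (d : ℕ) (f : A), 0 < d ∧ f ∈ 𝒜 d ∧ f ∉ x.asHomogeneousIdeal ∧
      Proj.basicOpen 𝒜 f ≤ W := by
  classical
  obtain ⟨_, ⟨g₀, rfl⟩, hxg₀, hg₀W⟩ :=
    (ProjectiveSpectrum.isTopologicalBasis_basic_opens 𝒜).exists_subset_of_mem_open hx W.2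
  obtain ⟨k, hk⟩ : ∃ k, (decompose 𝒜 g₀ k : A) ∉ x.asHomogeneousIdeal := by
    by_contra hc
    push Not at hc
    refine hxg₀ (?_ : g₀ ∈ x.asHomogeneousIdeal.toIdeal)
    rw [← sum_support_decompose 𝒜 g₀]
    exact Ideal.sum_mem _ fun k _ => hc k
  obtain ⟨d, g, hd, hg, hgx⟩ := exists_pos_notMem 𝒜 x
  refine ⟨d + k, g * decompose 𝒜 g₀ k, by omega, SetLike.mul_mem_graded hg (SetLike.coe_mem _),
    fun h => (x.isPrime.mem_or_mem h).elim hgx hk, fun y hy => hg₀W fun h => hy ?_⟩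
  exact y.asHomogeneousIdeal.toIdeal.mul_mem_left _ (y.asHomogeneousIdeal.isHomogeneous k h)

/-- A germ killed by the map to `(P / kerMod)~` is killed by `Φ`. -/
theorem stalk_eq_zero_of_toTilde (x : Proj 𝒜) (z : (QCohMod.stalk x).obj (sh 𝒜 e))
    (hz : (QCohMod.stalk x).map (toTilde (kerMod 𝒢 Φ)) z = 0) :
    (QCohMod.stalk x).map Φ z = 0 := by
  classical
  obtain ⟨k, t, ht, v, hx, rfl⟩ := exists_vec x z
  set v' := pr 𝒜 e k v with hv'
  have hT := Variety2.Reg.Tilde.tval_eq_zero_of_germ _ x hx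
    ((QCohMod.stalk_map_germ _ x hx _).symm.trans hz)
  rw [tval_toTilde] at hT
  obtain ⟨u, hu, huv⟩ := (Tilde.mk_eq_zero_iff 𝒜).mp hT
  obtain ⟨l, hl⟩ : ∃ l, (decompose 𝒜 u l : A) ∉ x.asHomogeneousIdeal := by
    by_contra hc
    push Not at hc
    refine hu (?_ : u ∈ x.asHomogeneousIdeal.toIdeal)
    rw [← sum_support_decompose 𝒜 u]
    exact Ideal.sum_mem _ fun l _ => hc l
  set c₀ : A := (decompose 𝒜 u l : A) with hc₀def
  have hc₀ : c₀ ∈ 𝒜 l := SetLike.coe_mem _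
  rw [Submodule.mkQ_apply, ← Submodule.Quotient.mk_smul, Submodule.Quotient.mk_eq_zero] at huv
  have hker : Killed 𝒢 Φ (l + k) (c₀ • v') := by
    have h := huv (l + k)
    rwa [pr_smul_right 𝒜 e u (pr_idem 𝒜 e k v)] at h
  obtain ⟨c, hc⟩ := 𝒢.cover x
  set T : A := c₀ * t with hTdef
  have hTmem : T ∈ 𝒜 (l + k) := SetLike.mul_mem_graded hc₀ ht
  have hTx : T ∉ x.asHomogeneousIdeal := fun h => (x.isPrime.mem_or_mem h).elim hl hx
  obtain ⟨e', he'⟩ : ∃ e', 𝒢.e c = e' + 1 := ⟨_, (Nat.sub_add_cancel (𝒢.pos c)).symm⟩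
  have ha : T ^ e' ∈ 𝒜 (e' * (l + k)) := by simpa using SetLike.pow_mem_graded e' hTmem
  have hzero : chartVal 𝒢 Φ c (l + k) (T ^ e' • c₀ • v') = 0 :=
    hker c (l + k) _ (T ^ e') ha (by rw [he']; ring)
  let W : (Proj 𝒜).Opens := Proj.basicOpen 𝒜 (𝒢.g c) ⊓ Proj.basicOpen 𝒜 T
  have hWt : W ≤ Proj.basicOpen 𝒜 t := fun y hy h =>
    hy.2 (y.asHomogeneousIdeal.toIdeal.mul_mem_left _ h)
  have hg : 𝒢.g c ^ (l + k) ∈ 𝒜 ((l + k) * 𝒢.e c) := by
    simpa using SetLike.pow_mem_graded (l + k) (𝒢.mem c)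
  have hTe : T ^ 𝒢.e c ∈ 𝒜 ((l + k) * 𝒢.e c) := by
    simpa [mul_comm] using SetLike.pow_mem_graded (𝒢.e c) hTmem
  obtain ⟨φ, hφ⟩ := PnCoh.exists_fun_frac hg hTe W (fun y hy => notMem_pow inf_le_right _ y hy)
  have key : φ • res (sh 𝒜 e) (inf_le_left : W ≤ _)
      (vec (e := e) hg (notMem_pow (U := Proj.basicOpen 𝒜 (𝒢.g c)) le_rfl (l + k))
        (T ^ e' • c₀ • v')) =
      res (sh 𝒜 e) hWt (vec ht (fun _ hy => hy) v) := by
    refine res_smul_vec_eq _ _ _ _ _ _ φ _ _ fun y hy j => ?_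
    rw [show (φ.1 ⟨y, hy⟩).val = _ from hφ y hy]
    have hp : pr 𝒜 e ((l + k) * 𝒢.e c) (T ^ e' • c₀ • v') = (T ^ e' * c₀) • v' := by
      rw [smul_smul, show (l + k) * 𝒢.e c = (e' * (l + k) + l) + k by rw [he']; ring,
        pr_smul_add 𝒜 e (SetLike.mul_mem_graded ha hc₀), hv', pr_idem]
    have := y.isPrime
    rw [hp, lfrac_mul_lfrac 𝒜 y _ _
      (y.asHomogeneousIdeal.toIdeal.primeCompl.mul_mem (notMem_pow inf_le_right _ y hy)
        (notMem_pow inf_le_left _ y hy))]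
    refine lfrac_congr _ _ ?_
    rw [Pi.smul_apply, smul_eq_mul, he', hTdef, ← hv']
    ring
  have h0 : Φ.app W (res (sh 𝒜 e) hWt (vec ht (fun _ hy => hy) v)) = 0 := by
    rw [← key, Scheme.Modules.Hom.app_smul, res_app_zero Φ _ hzero, smul_zero]
  refine (QCohMod.stalk_map_germ Φ x hx _).trans ?_
  have hxW : (x : Proj 𝒜) ∈ W := ⟨hc, hTx⟩
  rw [← QCohMod.germ_res F hWt x hxW]
  refine (congrArg _ ((QCohMod.res_app Φ hWt _).trans h0)).trans (map_zero _)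

lemma exists_bound (hF : Coh.IsCoh F) {U : (Proj 𝒜).Opens} (hU : IsAffineOpen U)
    [IsLocallyNoetherian (Proj 𝒜)] (a : Γ(Proj 𝒜, U)) :
    ∃ n : ℕ, ∀ s : Γ(F, U), QCohMod.res F ((Proj 𝒜).basicOpen_le a) s = 0 → a ^ n • s = 0 := by
  classical
  have := hF.1
  have : IsNoetherianRing Γ(Proj 𝒜, U) := IsLocallyNoetherian.component_noetherian ⟨U, hU⟩
  have : Module.Finite Γ(Proj 𝒜, U) Γ(F, U) := QCohMod.finite_sections F hF.2 hU
  let S : Submodule Γ(Proj 𝒜, U) Γ(F, U) :=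
    Submodule.span _ {s | QCohMod.res F ((Proj 𝒜).basicOpen_le a) s = 0}
  obtain ⟨G, hG⟩ := IsNoetherian.noetherian S
  have hS : ∀ s ∈ S, QCohMod.res F ((Proj 𝒜).basicOpen_le a) s = 0 := fun s hs => by
    induction hs using Submodule.span_induction with
    | mem s hs => exact hs
    | zero => exact map_zero _
    | add x y _ _ hx hy => rw [map_add, hx, hy, add_zero]
    | smul b x _ hx => rw [QCohMod.res_smul, hx, smul_zero]
  choose n hn using fun g : G => QCohMod.exists_pow_smul_eq_zero F hU a g.1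
    (hS _ (hG.le (Submodule.subset_span g.2)))
  refine ⟨Finset.univ.sup n, fun s hs => ?_⟩
  have : s ∈ Submodule.span Γ(Proj 𝒜, U) (G : Set Γ(F, U)) := by
    rw [hG]; exact Submodule.subset_span hs
  induction this using Submodule.span_induction with
  | mem g hg =>
    rw [← Nat.sub_add_cancel (Finset.le_sup (f := n) (Finset.mem_univ ⟨g, hg⟩)), pow_add, mul_smul,
      hn ⟨g, hg⟩, smul_zero]
  | zero => exact smul_zero _
  | add x y hx hy ihx ihy =>
    rw [smul_add, ihx (hS _ (hG.le hx)), ihy (hS _ (hG.le hy)), add_zero]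
  | smul b x hx ihx => rw [smul_comm, ihx (hS _ (hG.le hx)), smul_zero]

/-- A germ killed by `Φ` is killed by the map to `(P / kerMod)~`. -/
theorem stalk_toTilde_eq_zero [Finite ι] [IsLocallyNoetherian (Proj 𝒜)] (hF : Coh.IsCoh F)
    (x : Proj 𝒜) (z : (QCohMod.stalk x).obj (sh 𝒜 e)) (hz : (QCohMod.stalk x).map Φ z = 0) :
    (QCohMod.stalk x).map (toTilde (kerMod 𝒢 Φ)) z = 0 := by
  classical
  have := Fintype.ofFinite ι
  obtain ⟨k, t, ht, v, hx, rfl⟩ := exists_vec x z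
  set v' := pr 𝒜 e k v with hv'
  have h1 : QCohMod.germ F x hx (Φ.app _ (vec ht (fun _ hy => hy) v)) = 0 :=
    (QCohMod.stalk_map_germ Φ x hx _).symm.trans hz
  obtain ⟨W₀, hxW₀, i₁, i₂, h2⟩ := TopCat.Presheaf.germ_eq F.presheaf x hx hx _ 0
    (h1.trans (map_zero _).symm)
  obtain ⟨df, f, hdf, hf, hfx, hfW⟩ := exists_homogeneous_basicOpen (𝒜 := 𝒜) x hxW₀
  have hft : Proj.basicOpen 𝒜 f ≤ Proj.basicOpen 𝒜 t := hfW.trans i₁.le
  have hzero : Φ.app _ (res (sh 𝒜 e) hft (vec ht (fun _ hy => hy) v)) = 0 := by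
    have h3 : res F i₁.le (Φ.app _ (vec ht (fun _ hy => hy) v)) = 0 := h2.trans (map_zero _)
    have h4 : Φ.app _ (res (sh 𝒜 e) i₁.le (vec ht (fun _ hy => hy) v)) = 0 :=
      (QCohMod.res_app Φ i₁.le _).symm.trans h3
    have h5 := res_app_zero Φ hfW h4
    rwa [show res (sh 𝒜 e) hfW (res (sh 𝒜 e) i₁.le (vec ht (fun _ hy => hy) v)) =
      res (sh 𝒜 e) hft (vec ht (fun _ hy => hy) v) from QCohMod.res_res _ _ _ _] at h5
  have haff : ∀ c, IsAffineOpen (Proj.basicOpen 𝒜 (𝒢.g c)) := fun c =>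
    Proj.isAffineOpen_basicOpen 𝒜 _ (𝒢.mem c) (𝒢.pos c)
  have hfe : ∀ c, f ^ 𝒢.e c ∈ 𝒜 (df * 𝒢.e c) := fun c => by
    simpa [mul_comm] using SetLike.pow_mem_graded (𝒢.e c) hf
  have hgd : ∀ c, 𝒢.g c ^ df ∈ 𝒜 (df * 𝒢.e c) := fun c => by
    simpa using SetLike.pow_mem_graded df (𝒢.mem c)
  choose ρ hρ using fun c => PnCoh.exists_fun_frac (hfe c) (hgd c)
    (Proj.basicOpen 𝒜 (𝒢.g c)) (fun y hy => notMem_pow le_rfl _ y hy)
  choose B hB using fun c => exists_bound hF (haff c) (ρ c)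
  let L : ℕ := (∑ c, B c) * ∏ c, 𝒢.e c
  have hL : ∀ c, ∃ q, B c ≤ q ∧ L = q * 𝒢.e c := fun c => by
    refine ⟨(∑ c, B c) * ∏ c' ∈ Finset.univ.erase c, 𝒢.e c', ?_, ?_⟩
    · exact (Finset.single_le_sum (fun c _ => Nat.zero_le (B c)) (Finset.mem_univ c)).trans
        (Nat.le_mul_of_pos_right _ (Finset.prod_pos fun c' _ => 𝒢.pos c'))
    · simp only [L, ← Finset.mul_prod_erase _ 𝒢.e (Finset.mem_univ c)]
      ring
  have hfL : f ^ L ∈ 𝒜 (L * df) := by simpa using SetLike.pow_mem_graded L hf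
  have hmem : f ^ L • v' ∈ kerMod 𝒢 Φ := by
    refine mem_kerMod_of_killed 𝒢 Φ (n := L * df + k)
      (by rw [pr_smul_add 𝒜 e hfL, hv', pr_idem]) ?_
    intro c p i a ha hn
    obtain ⟨q, hq, hLq⟩ := hL c
    set g := 𝒢.g c with hgdef
    have hgp : g ^ p ∈ 𝒜 (p * 𝒢.e c) := by simpa using SetLike.pow_mem_graded p (𝒢.mem c)
    have hgq : g ^ (df * q) ∈ 𝒜 (df * q * 𝒢.e c) := by
      simpa using SetLike.pow_mem_graded (df * q) (𝒢.mem c)
    set b : A := a * g ^ (df * q) with hbdef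
    have hb : b ∈ 𝒜 (i + df * q * 𝒢.e c) := SetLike.mul_mem_graded ha hgq
    have hdeg : p * 𝒢.e c = (i + df * q * 𝒢.e c) + k := by
      rw [← hn, hLq]; ring
    have hprb : pr 𝒜 e (p * 𝒢.e c) (b • v') = b • v' := by
      rw [hdeg, pr_smul_add 𝒜 e hb, hv', pr_idem]
    have hpra : pr 𝒜 e (p * 𝒢.e c) (a • f ^ L • v') = (a * f ^ L) • v' := by
      rw [smul_smul, ← hn, show i + (L * df + k) = (i + L * df) + k by ring,
        pr_smul_add 𝒜 e (SetLike.mul_mem_graded ha hfL), hv', pr_idem]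
    let D := Proj.basicOpen 𝒜 g
    have hD : (Proj 𝒜).basicOpen (ρ c) ≤ D := (Proj 𝒜).basicOpen_le _
    have hDf : (Proj 𝒜).basicOpen (ρ c) ≤ Proj.basicOpen 𝒜 f := fun y hy h =>
      (mem_basicOpen_iff_of_frac 𝒜 (ρ c) (hD hy) (hρ c y (hD hy))).mp hy
        (y.asHomogeneousIdeal.toIdeal.pow_mem_of_mem h _ (𝒢.pos c))
    let W := (Proj 𝒜).basicOpen (ρ c)
    have hbt : b * t ∈ 𝒜 (p * 𝒢.e c) := hdeg ▸ SetLike.mul_mem_graded hb ht
    obtain ⟨φ, hφ⟩ := PnCoh.exists_fun_frac hbt hgp W (fun y hy => notMem_pow hD _ y hy)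
    -- the section `b v' / g ^ p` is killed on the locus of `f`
    have hσ : res F hD (chartVal 𝒢 Φ c p (b • v')) = 0 := by
      have key : φ • res (sh 𝒜 e) (hDf.trans hft) (vec ht (fun _ hy => hy) v) =
          res (sh 𝒜 e) hD (vec hgp (fun y hy => notMem_pow le_rfl p y hy) (b • v')) := by
        refine res_smul_vec_eq _ _ _ _ _ _ φ _ _ fun y hy j => ?_
        rw [show (φ.1 ⟨y, hy⟩).val = _ from hφ y hy]
        have := y.isPrime
        rw [hprb, lfrac_mul_lfrac 𝒜 y _ _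
          (y.asHomogeneousIdeal.toIdeal.primeCompl.mul_mem (notMem_pow hD _ y hy)
            (hft (hDf hy)))]
        refine lfrac_congr _ _ ?_
        rw [Pi.smul_apply, smul_eq_mul, ← hv']
        ring
      refine (QCohMod.res_app Φ hD _).trans ?_
      refine (congrArg _ key.symm).trans ?_
      rw [Scheme.Modules.Hom.app_smul]
      rw [show res (sh 𝒜 e) (hDf.trans hft) (vec ht (fun _ hy => hy) v) =
        res (sh 𝒜 e) hDf (res (sh 𝒜 e) hft (vec ht (fun _ hy => hy) v)) from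
          (QCohMod.res_res _ _ _ _).symm, res_app_zero Φ _ hzero, smul_zero]
    -- multiply by the power of the function
    have hpow : ρ c ^ q • chartVal 𝒢 Φ c p (b • v') = 0 := by
      rw [← Nat.sub_add_cancel hq, pow_add, mul_smul, hB c _ hσ, smul_zero]
    have key2 : ρ c ^ q • vec (e := e) hgp (fun y hy => notMem_pow (le_refl D) p y hy) (b • v') =
        vec hgp (fun y hy => notMem_pow (le_refl D) p y hy) (a • f ^ L • v') := by
      have := res_smul_vec_eq (e := e) hgp hgp (fun y hy => notMem_pow (le_refl D) p y hy)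
        (fun y hy => notMem_pow (le_refl D) p y hy) le_rfl le_rfl (ρ c ^ q) (b • v')
        (a • f ^ L • v') fun y hy j => by
          change PnCoh.fval (ρ c ^ q) y hy * _ = _
          rw [PnCoh.fval_pow, hρ c y hy, hprb, hpra, lfrac, Localization.mk_pow, Localization.mk_mul]
          refine lfrac_congr _ _ ?_
          rw [Pi.smul_apply, Pi.smul_apply, smul_eq_mul, smul_eq_mul, hbdef, hLq]
          push_cast
          ring
      simpa [QCohMod.res_self] using this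
    change Φ.app D (vec hgp _ (a • f ^ L • v')) = 0
    rw [← key2, Scheme.Modules.Hom.app_smul]
    exact hpow
  refine (QCohMod.stalk_map_germ _ x hx _).trans (Variety2.Reg.Tilde.germ_eq_zero _ x hx ?_)
  rw [tval_toTilde]
  refine (Tilde.mk_eq_zero_iff 𝒜).mpr ⟨f ^ L, fun h => hfx (x.isPrime.mem_of_pow_mem L h), ?_⟩
  rw [← map_smul, Submodule.mkQ_apply, Submodule.Quotient.mk_eq_zero, ← hv']
  exact hmem

/-- Two epimorphisms with the same germwise kernels have isomorphic targets. -/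
lemma nonempty_iso_of_stalk {X : Scheme.{u}} {P M N : X.Modules} (φ : P ⟶ M) (ψ : P ⟶ N)
    [Epi φ] [Epi ψ]
    (h : ∀ (x : X) (z : (QCohMod.stalk x).obj P),
      (QCohMod.stalk x).map φ z = 0 ↔ (QCohMod.stalk x).map ψ z = 0) : Nonempty (M ≅ N) := by
  have h₁ : kernel.ι φ ≫ ψ = 0 := eq_zero_of_stalk _ fun x w => by
    rw [Functor.map_comp, ConcreteCategory.comp_apply]
    refine (h x _).mp ?_
    rw [← ConcreteCategory.comp_apply, ← Functor.map_comp, kernel.condition, Functor.map_zero]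
    rfl
  have h₂ : kernel.ι ψ ≫ φ = 0 := eq_zero_of_stalk _ fun x w => by
    rw [Functor.map_comp, ConcreteCategory.comp_apply]
    refine (h x _).mpr ?_
    rw [← ConcreteCategory.comp_apply, ← Functor.map_comp, kernel.condition, Functor.map_zero]
    rfl
  refine ⟨⟨Abelian.epiDesc φ ψ h₁, Abelian.epiDesc ψ φ h₂, ?_, ?_⟩⟩
  · rw [← cancel_epi φ, ← Category.assoc, Abelian.comp_epiDesc, Abelian.comp_epiDesc,
      Category.comp_id]
  · rw [← cancel_epi ψ, ← Category.assoc, Abelian.comp_epiDesc, Abelian.comp_epiDesc,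
      Category.comp_id]

/-- A coherent module on `Proj` of a Noetherian graded ring is the sheaf of a finite graded
module. -/
theorem exists_tilde_iso (𝒜 : ℕ → Submodule R A) [GradedAlgebra 𝒜] [IsNoetherianRing A]
    (F : (Proj 𝒜).Modules) (hF : Coh.IsCoh F) :
    ∃ (r : ℕ) (e : Fin r → ℕ) (N : Submodule A (Fin r → A)),
      (∀ (n : ℕ) (v : Fin r → A), v ∈ N → pr 𝒜 e n v ∈ N) ∧
        Nonempty (GrTilde.tilde 𝒜 (qGr 𝒜 e N) 0 ≅ F) := by
  obtain ⟨ι, hι, ⟨𝒢⟩⟩ := PnCoh.exists_stdFamily 𝒜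
  have := (irrelevant_fg_iff_finiteType 𝒜).mp (IsNoetherian.noetherian _)
  have := isNoetherianRing_zero 𝒜
  have : IsLocallyNoetherian (Proj 𝒜) :=
    LocallyOfFiniteType.isLocallyNoetherian (Proj.toSpecZero 𝒜)
  obtain ⟨r, d, φ, hd, hφ⟩ := PnCoh.exists_epi_twists 𝒜 F hF 0
  let e : Fin r → ℕ := fun j => (-(d j)).toNat
  have hde : d = fun j => -(e j : ℤ) := funext fun j => by
    have := hd j
    simp only [e]
    omega
  clear_value e
  subst hde
  refine ⟨r, e, kerMod 𝒢 φ, pr_mem_kerMod 𝒢 φ, ?_⟩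
  have : Epi φ := hφ
  have := epi_toTilde (𝒜 := 𝒜) (e := e) (kerMod 𝒢 φ)
  exact nonempty_iso_of_stalk (toTilde (kerMod 𝒢 φ)) φ fun x z =>
    ⟨stalk_eq_zero_of_toTilde 𝒢 φ x z, stalk_toTilde_eq_zero 𝒢 φ hF x z⟩

end Groth.CohProjGr
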