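import Groth.Agent.CohProjGr.Free
import Groth.Agent.Variety2.Reg.TildeMap
import Groth.Agent.PnCoh.TwistQuot

/-!
# Vectors of fractions in finite sums of negative twists
-/

universe u

open CategoryTheory CategoryTheory.Limits AlgebraicGeometry Opposite TopologicalSpace DirectSum
open Groth.PicAux Groth.Ega2Proj

noncomputable section

namespace Groth.CohProjGr

variable {R A : Type u} [CommRing R] [CommRing A] [Algebra R A] (𝒜 : ℕ → Submodule R A)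
  [GradedAlgebra 𝒜] {r : ℕ} (e : Fin r → ℕ)

/-- The summands `O(-e j)`. -/
abbrev tw (j : Fin r) : (Proj 𝒜).Modules := Twist.twist 𝒜 (-(e j : ℤ))

/-- `⊕ O(-e j)`. -/
abbrev sh : (Proj 𝒜).Modules := ∐ tw 𝒜 e

variable {𝒜 e}

lemma deg_pr (k : ℕ) (v : Fin r → A) (j : Fin r) :
    ((k - e j : ℕ) : ℤ) = k + -(e j : ℤ) ∨ pr 𝒜 e k v j = 0 :=
  (pr_deg 𝒜 e k v j).imp (fun h => by omega) id

/-- The `j`-th fraction `(pr k v) j / t`. -/
def comp {k : ℕ} {t : A} (ht : t ∈ 𝒜 k) {U : (Proj 𝒜).Opens}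
    (hU : ∀ x : ProjectiveSpectrum 𝒜, x ∈ U → t ∉ x.asHomogeneousIdeal) (j : Fin r) :
    (Fin r → A) →+ Γ(tw 𝒜 e j, U) :=
  AddMonoidHom.mk'
    (fun v => Tilde.fracSect 𝒜 𝒜 (-(e j : ℤ)) U (i := k - e j) (pr 𝒜 e k v j) (pr_mem 𝒜 e k v j)
      t ht (fun x => hU x.1 x.2) (deg_pr k v j))
    fun v w => wval_ext fun x hx => by
      change lfrac 𝒜 x (pr 𝒜 e k (v + w) j) (hU x hx) =
        lfrac 𝒜 x (pr 𝒜 e k v j) (hU x hx) + lfrac 𝒜 x (pr 𝒜 e k w j) (hU x hx)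
      rw [map_add, Pi.add_apply]
      exact (Localization.add_mk_self _ _ _).symm

lemma wval_comp {k : ℕ} {t : A} (ht : t ∈ 𝒜 k) {U : (Proj 𝒜).Opens}
    (hU : ∀ x : ProjectiveSpectrum 𝒜, x ∈ U → t ∉ x.asHomogeneousIdeal) (j : Fin r) (v : Fin r → A)
    (x : ProjectiveSpectrum 𝒜) (hx : x ∈ U) :
    wval (comp (e := e) ht hU j v) x hx = lfrac 𝒜 x (pr 𝒜 e k v j) (hU x hx) := rfl

/-- The section with components `(pr k v) j / t`. -/
def vec {k : ℕ} {t : A} (ht : t ∈ 𝒜 k) {U : (Proj 𝒜).Opens}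
    (hU : ∀ x : ProjectiveSpectrum 𝒜, x ∈ U → t ∉ x.asHomogeneousIdeal) :
    (Fin r → A) →+ Γ(sh 𝒜 e, U) :=
  ∑ j, ((Sigma.ι (tw 𝒜 e) j).app U).hom.comp (comp ht hU j)

lemma vec_apply {k : ℕ} {t : A} (ht : t ∈ 𝒜 k) {U : (Proj 𝒜).Opens}
    (hU : ∀ x : ProjectiveSpectrum 𝒜, x ∈ U → t ∉ x.asHomogeneousIdeal) (v : Fin r → A) :
    vec (e := e) ht hU v = ∑ j, (Sigma.ι (tw 𝒜 e) j).app U (comp ht hU j v) := by
  simp [vec]

lemma sec_total {U : (Proj 𝒜).Opens} (z : Γ(sh 𝒜 e, U)) :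
    z = ∑ j, (Sigma.ι (tw 𝒜 e) j).app U ((PnCoh.sigmaProj (tw 𝒜 e) j).app U z) := by
  refine (congr(($(PnCoh.sigmaProj_total (tw 𝒜 e))).app U z)).symm.trans ?_
  rw [QCohMod.app_sum]
  rfl

lemma proj_ι {U : (Proj 𝒜).Opens} (i j : Fin r) (z : Γ(tw 𝒜 e i, U)) :
    (PnCoh.sigmaProj (tw 𝒜 e) j).app U ((Sigma.ι (tw 𝒜 e) i).app U z) =
      if h : i = j then h ▸ z else 0 := by
  have h1 : Sigma.ι (tw 𝒜 e) i ≫ PnCoh.sigmaProj (tw 𝒜 e) j =
      if h : i = j then eqToHom (congrArg (tw 𝒜 e) h) else 0 := Sigma.ι_desc _ _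
  refine (congr(($h1).app U z)).trans ?_
  split_ifs with h
  · subst h; rfl
  · rfl

lemma proj_vec {k : ℕ} {t : A} (ht : t ∈ 𝒜 k) {U : (Proj 𝒜).Opens}
    (hU : ∀ x : ProjectiveSpectrum 𝒜, x ∈ U → t ∉ x.asHomogeneousIdeal) (v : Fin r → A) (j : Fin r) :
    (PnCoh.sigmaProj (tw 𝒜 e) j).app U (vec ht hU v) = comp ht hU j v := by
  rw [vec_apply, map_sum, Finset.sum_eq_single j]
  · rw [proj_ι, dif_pos rfl]
  · exact fun i _ hij => by rw [proj_ι, dif_neg hij]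
  · simp

lemma sh_ext {U : (Proj 𝒜).Opens} {y z : Γ(sh 𝒜 e, U)}
    (h : ∀ (j : Fin r) (x : ProjectiveSpectrum 𝒜) (hx : x ∈ U),
      wval ((PnCoh.sigmaProj (tw 𝒜 e) j).app U y) x hx =
        wval ((PnCoh.sigmaProj (tw 𝒜 e) j).app U z) x hx) : y = z := by
  rw [sec_total y, sec_total z]
  exact Finset.sum_congr rfl fun j _ => congrArg _ (wval_ext (h j))

/-- A function times a vector of fractions, restricted, is another vector of fractions when the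
values agree componentwise. -/
lemma res_smul_vec_eq {k k' : ℕ} {t t' : A} (ht : t ∈ 𝒜 k) (ht' : t' ∈ 𝒜 k')
    {U U' W : (Proj 𝒜).Opens}
    (hU : ∀ x : ProjectiveSpectrum 𝒜, x ∈ U → t ∉ x.asHomogeneousIdeal)
    (hU' : ∀ x : ProjectiveSpectrum 𝒜, x ∈ U' → t' ∉ x.asHomogeneousIdeal)
    (hW : W ≤ U) (hW' : W ≤ U') (φ : Γ(Proj 𝒜, W)) (v v' : Fin r → A)
    (h : ∀ (x : ProjectiveSpectrum 𝒜) (hx : x ∈ W) (j : Fin r),
      (φ.1 ⟨x, hx⟩).val * lfrac 𝒜 x (pr 𝒜 e k v j) (hU x (hW hx)) =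
        lfrac 𝒜 x (pr 𝒜 e k' v' j) (hU' x (hW' hx))) :
    φ • res (sh 𝒜 e) hW (vec ht hU v) = res (sh 𝒜 e) hW' (vec ht' hU' v') := by
  refine sh_ext fun j x hx => ?_
  have e1 : (PnCoh.sigmaProj (tw 𝒜 e) j).app W (res (sh 𝒜 e) hW (vec ht hU v)) =
      res (tw 𝒜 e j) hW (comp ht hU j v) := by
    rw [← proj_vec ht hU v j]
    exact (QCohMod.res_app _ hW _).symm
  have e2 : (PnCoh.sigmaProj (tw 𝒜 e) j).app W (res (sh 𝒜 e) hW' (vec ht' hU' v')) =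
      res (tw 𝒜 e j) hW' (comp ht' hU' j v') := by
    rw [← proj_vec ht' hU' v' j]
    exact (QCohMod.res_app _ hW' _).symm
  rw [Scheme.Modules.Hom.app_smul, e1, e2, wval_smul, wval_res, wval_res, wval_comp, wval_comp]
  exact h x hx j

lemma lfrac_congr {x : ProjectiveSpectrum 𝒜} {a b c d : A} (hb : b ∉ x.asHomogeneousIdeal)
    (hd : d ∉ x.asHomogeneousIdeal) (h : a * d = c * b) : lfrac 𝒜 x a hb = lfrac 𝒜 x c hd := by
  rw [lfrac, lfrac, Localization.mk_eq_mk_iff, Localization.r_iff_exists]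
  refine ⟨1, ?_⟩
  simp only [OneMemClass.coe_one, one_mul]
  linear_combination h

lemma eq_zero_of_stalk {X : Scheme.{u}} {M N : X.Modules} (φ : M ⟶ N)
    (h : ∀ (x : X) (z : (QCohMod.stalk x).obj M), (QCohMod.stalk x).map φ z = 0) : φ = 0 := by
  refine CohTwo.hom_ext_app fun U s => ?_
  refine TopCat.Presheaf.section_ext ((Groth.CohBase.toAbF X).obj N) U _ _ fun x hx => ?_
  change QCohMod.germ N x hx (φ.app U s) = QCohMod.germ N x hx 0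
  exact ((QCohMod.stalk_map_germ φ x hx s).symm.trans (h x _)).trans (map_zero _).symm

set_option maxHeartbeats 800000 in
/-- Every germ of `⊕ O(-e j)` is the germ of a vector of fractions. -/
lemma exists_vec (x : Proj 𝒜) (z : (QCohMod.stalk x).obj (sh 𝒜 e)) :
    ∃ (k : ℕ) (t : A) (ht : t ∈ 𝒜 k) (v : Fin r → A) (hx : x ∈ Proj.basicOpen 𝒜 t),
      QCohMod.germ (sh 𝒜 e) x hx (vec ht (U := Proj.basicOpen 𝒜 t) (fun _ hy => hy) v) = z := by
  classical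
  obtain ⟨W, hxW, s, rfl⟩ := QCohMod.exists_germ (sh 𝒜 e) x z
  choose i k a t htx ha htk hdeg hval using fun j =>
    Tilde.exists_frac_of_mem_tildeAt 𝒜 𝒜 (-(e j : ℤ))
      (Tilde.tval_mem (ℳ := 𝒜) ((PnCoh.sigmaProj (tw 𝒜 e) j).app W s) x hxW)
  let K : ℕ := ∑ j, k j
  let T : A := ∏ j, t j
  let v : Fin r → A := fun j => a j * ∏ c ∈ Finset.univ.erase j, t c
  have hT : T ∈ 𝒜 K := SetLike.prod_mem_graded 𝒜 _ _ (fun j _ => htk j)
  have hxT : x ∈ Proj.basicOpen 𝒜 T := fun h => by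
    obtain ⟨j, -, hj⟩ := (Ideal.IsPrime.prod_mem_iff (hp := x.isPrime)).mp h
    exact htx j hj
  have hv : ∀ j, pr 𝒜 e K v j = v j := fun j => by
    rcases hdeg j with h | h
    · have h1 : v j ∈ 𝒜 (i j + ∑ c ∈ Finset.univ.erase j, k c) :=
        SetLike.mul_mem_graded (ha j) (SetLike.prod_mem_graded 𝒜 _ _ fun c _ => htk c)
      have h2 : K = k j + ∑ c ∈ Finset.univ.erase j, k c :=
        (Finset.add_sum_erase _ k (Finset.mem_univ j)).symm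
      rw [pr_apply, if_pos (by omega), show K - e j = i j + ∑ c ∈ Finset.univ.erase j, k c by omega,
        decompose_of_mem_same 𝒜 h1]
    · have : v j = 0 := by simp [v, h]
      rw [pr_apply, this, decompose_zero]
      simp
  refine ⟨K, T, hT, v, hxT, ?_⟩
  have hxI : x ∈ W ⊓ Proj.basicOpen 𝒜 T := ⟨hxW, hxT⟩
  conv_rhs => rw [sec_total s, map_sum]
  rw [vec_apply, map_sum]
  refine Finset.sum_congr rfl fun j _ => ?_
  refine ((QCohMod.stalk_map_germ _ x hxT _).symm.trans ?_).trans (QCohMod.stalk_map_germ _ x hxW _)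
  refine congrArg _ (Variety2.Reg.Tilde.germ_congr (ℳ := 𝒜) _ _ x hxT hxW ?_)
  refine Eq.trans ?_ (hval j).symm
  change lfrac 𝒜 x (pr 𝒜 e K v j) _ = lfrac 𝒜 x (a j) _
  rw [hv j]
  refine lfrac_congr _ _ ?_
  simp only [v, T, ← Finset.mul_prod_erase _ t (Finset.mem_univ j)]
  ring

end Groth.CohProjGr
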